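import Groth.Agent.L25.RankOne.Abs
import Groth.Agent.L25.GaPts
import Groth.Prelude.Def_GmPts
import Groth.Prelude.Def_Red2
import Mathlib.RingTheory.AdjoinRoot
import Mathlib.AlgebraicGeometry.Morphisms.Flat

/-!
# Rank one systems on points
-/

set_option autoImplicit false
universe u

open CategoryTheory MonoidalCategory CartesianMonoidalCategory AlgebraicGeometry
open scoped MonObj

set_option backward.isDefEq.respectTransparency.types false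
set_option linter.style.haveILetI false

noncomputable section

namespace Groth.L25.RankOne

variable {S : Scheme.{u}} {G T : Over S} [GrpObj G] [GrpObj T] (i : T ⟶ G) [IsMonHom i]
  (α : T ⟶ Red.Gm S) (pp pm : Red.Ga S ⟶ G) [IsMonHom pp] [IsMonHom pm]
  (av : Red.Gm S ⟶ T) [IsMonHom av]

/-- the hypotheses of a rank one system -/
structure Sys : Prop where
  hpp : ∀ (X : Over S) (t : X ⟶ T) (x : X ⟶ Red.Ga S), ∃ x' : X ⟶ Red.Ga S,
      x' ≫ pp = (t ≫ i) * (x ≫ pp) * (t ≫ i)⁻¹ ∧ Red.gaFn x' = Red.gmFn (t ≫ α) * Red.gaFn x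
  hpm : ∀ (X : Over S) (t : X ⟶ T) (y : X ⟶ Red.Ga S), ∃ y' : X ⟶ Red.Ga S,
      y' ≫ pm = (t ≫ i) * (y ≫ pm) * (t ≫ i)⁻¹ ∧ Red.gaFn y' * Red.gmFn (t ≫ α) = Red.gaFn y
  h2 : av ≫ α = (𝟙 (Red.Gm S)) ^ 2
  hF : ∀ (X : Over S) (x y : X ⟶ Red.Ga S), IsUnit (1 + Red.gaFn x * Red.gaFn y) →
      ∃ (x' y' : X ⟶ Red.Ga S) (z : X ⟶ Red.Gm S), Red.gmFn z = 1 + Red.gaFn x * Red.gaFn y ∧
        Red.gaFn x' * Red.gmFn z = Red.gaFn x ∧ Red.gaFn y' * Red.gmFn z = Red.gaFn y ∧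
        (x ≫ pp) * (y ≫ pm) = (y' ≫ pm) * (z ≫ av ≫ i) * (x' ≫ pp)

variable {i α pp pm av} (H : Sys i α pp pm av) {X : Over S}

theorem ptOfElt_add (r s : Γ(X.left, ⊤)) :
    (GaPts.ptOfElt (r + s) : X ⟶ Red.Ga S) = GaPts.ptOfElt r * GaPts.ptOfElt s := by
  refine GaPts.gaFn_injective ?_
  simp only [GaPts.gaFn_mul, GaPts.gaFn_ptOfElt]

include H in
theorem conj_pp (t : X ⟶ T) (r : Γ(X.left, ⊤)) :
    (t ≫ i) * (GaPts.ptOfElt r ≫ pp) * (t ≫ i)⁻¹ =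
      GaPts.ptOfElt (Units.val (GmPts.unitOfPt (t ≫ α)) * r) ≫ pp := by
  obtain ⟨x', h1, h2⟩ := H.hpp X t (GaPts.ptOfElt r)
  rw [← h1]
  congr 1
  refine GaPts.gaFn_injective ?_
  simp only [h2, GaPts.gaFn_ptOfElt, GmPts.val_unitOfPt]

include H in
theorem conj_pm (t : X ⟶ T) (r : Γ(X.left, ⊤)) :
    (t ≫ i) * (GaPts.ptOfElt r ≫ pm) * (t ≫ i)⁻¹ =
      GaPts.ptOfElt (Units.val (GmPts.unitOfPt (t ≫ α))⁻¹ * r) ≫ pm := by
  obtain ⟨x', h1, h2⟩ := H.hpm X t (GaPts.ptOfElt r)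
  rw [← h1]
  congr 1
  refine GaPts.gaFn_injective ?_
  rw [GaPts.gaFn_ptOfElt] at h2
  simp only [GaPts.gaFn_ptOfElt]
  rw [← GmPts.val_unitOfPt] at h2
  linear_combination (↑(GmPts.unitOfPt (t ≫ α))⁻¹ : Γ(X.left, ⊤)) * h2 - Red.gaFn x' * (GmPts.unitOfPt (t ≫ α)).mul_inv

include H in
theorem unitOfPt_av (z : X ⟶ Red.Gm S) : GmPts.unitOfPt ((z ≫ av) ≫ α) = GmPts.unitOfPt z * GmPts.unitOfPt z := by
  rw [Category.assoc, H.h2, pow_two, MonObj.comp_mul, Category.comp_id, GmPts.unitOfPt_mul]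

/-- the relations on `X`-points -/
def rel (H : Sys i α pp pm av) (X : Over S) : Rel Γ(X.left, ⊤) (X ⟶ G) (X ⟶ T) where
  a r := GaPts.ptOfElt r ≫ pp
  b r := GaPts.ptOfElt r ≫ pm
  h z := GmPts.ptOfUnit z ≫ av ≫ i
  j t := t ≫ i
  χ t := GmPts.unitOfPt (t ≫ α)
  a_add r s := by rw [ptOfElt_add, MonObj.mul_comp]
  b_add r s := by rw [ptOfElt_add, MonObj.mul_comp]
  h_mul y z := by rw [GmPts.ptOfUnit_mul, MonObj.mul_comp]
  conj_a := conj_pp H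
  conj_b := conj_pm H
  h_conj_a z r := by
    rw [← Category.assoc, conj_pp H, unitOfPt_av H, GmPts.unitOfPt_ptOfUnit, Units.val_mul]
  h_conj_b z r := by
    rw [← Category.assoc, conj_pm H, unitOfPt_av H, GmPts.unitOfPt_ptOfUnit, mul_inv_rev, Units.val_mul]
  comm x y u hu := by
    obtain ⟨x', y', z, hz, hx', hy', he⟩ := H.hF X (GaPts.ptOfElt x) (GaPts.ptOfElt y) (by
      rw [GaPts.gaFn_ptOfElt, GaPts.gaFn_ptOfElt, ← hu]; exact u.isUnit)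
    rw [GaPts.gaFn_ptOfElt, GaPts.gaFn_ptOfElt, ← hu] at hz
    rw [GaPts.gaFn_ptOfElt, hz, ← Units.eq_mul_inv_iff_mul_eq] at hx' hy'
    rw [show GmPts.ptOfUnit u = z from GmPts.gmFn_injective ((GmPts.gmFn_ptOfUnit u).trans hz.symm), ← hx', ← hy',
      GaPts.ptOfElt_gaFn, GaPts.ptOfElt_gaFn]
    exact he

theorem pp_eq (x : X ⟶ Red.Ga S) : x ≫ pp = (rel H X).a (Red.gaFn x) := by
  show _ = GaPts.ptOfElt (Red.gaFn x) ≫ pp
  rw [GaPts.ptOfElt_gaFn]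

theorem pm_eq (x : X ⟶ Red.Ga S) : x ≫ pm = (rel H X).b (Red.gaFn x) := by
  show _ = GaPts.ptOfElt (Red.gaFn x) ≫ pm
  rw [GaPts.ptOfElt_gaFn]

theorem av_eq (z : X ⟶ Red.Gm S) : z ≫ av ≫ i = (rel H X).h (GmPts.unitOfPt z) := by
  show _ = GmPts.ptOfUnit (GmPts.unitOfPt z) ≫ av ≫ i
  rw [GmPts.ptOfUnit_unitOfPt]

include H in
/-- the braid relation -/
theorem braid (x : (Γ(X.left, ⊤))ˣ) :
    (rel H X).a x * (rel H X).b (-↑x⁻¹) * (rel H X).a x =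
      (rel H X).b (-↑x⁻¹) * (rel H X).a x * (rel H X).b (-↑x⁻¹) := by
  let P : Polynomial (ULift.{u} ℤ) := Polynomial.X ^ 2 - Polynomial.X + 1
  have hP : P.Monic := by unfold P; monicity!
  let R₀ := AdjoinRoot P
  haveI : Module.Free (ULift.{u} ℤ) R₀ := Module.Free.of_basis (AdjoinRoot.powerBasis' hP).basis
  haveI : Module.Finite (ULift.{u} ℤ) R₀ := Module.Finite.of_basis (AdjoinRoot.powerBasis' hP).basis
  haveI : IsDomain (ULift.{u} ℤ) := ULift.ringEquiv.toMulEquiv.isDomain ℤ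
  have hinj : Function.Injective (algebraMap (ULift.{u} ℤ) R₀) := by
    rw [AdjoinRoot.algebraMap_eq]
    exact AdjoinRoot.of.injective_of_degree_ne_zero (by
      rw [show P.degree = 2 from by unfold P; compute_degree!]; decide)
  let g : Spec (CommRingCat.of R₀) ⟶ Spec (CommRingCat.of (ULift.{u} ℤ)) :=
    Spec.map (CommRingCat.ofHom (algebraMap (ULift.{u} ℤ) R₀))
  haveI : Flat g := (HasRingHomProperty.Spec_iff (P := @Flat)).2 (RingHom.flat_algebraMap_iff.2 (inferInstanceAs (Module.Flat (ULift.{u} ℤ) R₀)))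
  haveI : Surjective g := by
    refine ⟨fun p => ?_⟩
    obtain ⟨q, hq⟩ := RingHom.IsIntegral.comap_surjective
      (algebraMap_isIntegral_iff.2 (@Algebra.IsIntegral.of_finite (ULift.{u} ℤ) R₀ _ _ _ (Module.Finite.of_basis (AdjoinRoot.powerBasis' hP).basis))) hinj p
    exact ⟨q, hq⟩
  let W := Limits.pullback (X.hom ≫ GmPts.toBaseZ S) g
  let c : W ⟶ X.left := Limits.pullback.fst (X.hom ≫ GmPts.toBaseZ S) g
  let q : W ⟶ Spec (CommRingCat.of R₀) := Limits.pullback.snd (X.hom ≫ GmPts.toBaseZ S) g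
  let X' : Over S := Over.mk (c ≫ X.hom)
  let C : X' ⟶ X := Over.homMk c rfl
  haveI : Flat c := MorphismProperty.pullback_fst _ _ (inferInstance : Flat g)
  haveI : Surjective c := MorphismProperty.pullback_fst _ _ (inferInstance : Surjective g)
  haveI : Epi c := Flat.epi_of_flat_of_surjective c
  haveI : Epi C.left := ‹Epi c›
  haveI : Epi C := Over.epi_of_epi_left C
  let φ : R₀ →+* Γ(X'.left, ⊤) := ((Scheme.ΓSpecIso (CommRingCat.of R₀)).inv ≫ q.appTop).hom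
  have hr : (AdjoinRoot.root P) * (1 - AdjoinRoot.root P) = 1 := by
    have h := AdjoinRoot.eval₂_root P
    simp only [P, Polynomial.eval₂_add, Polynomial.eval₂_sub, Polynomial.eval₂_pow, Polynomial.eval₂_X,
      Polynomial.eval₂_one] at h
    linear_combination -h
  let r : (Γ(X'.left, ⊤))ˣ := Units.map φ.toMonoidHom ⟨_, _, hr, by rw [mul_comm, hr]⟩
  let x' : (Γ(X'.left, ⊤))ˣ := Units.map C.left.appTop.hom.toMonoidHom x
  have key := (rel H X').braid x' r r⁻¹ (by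
    show φ (AdjoinRoot.root P) + φ (1 - AdjoinRoot.root P) = 1
    rw [← map_add, add_sub_cancel, map_one])
  have hC : ∀ v, C ≫ (rel H X).a v = (rel H X').a (C.left.appTop v) ∧
      C ≫ (rel H X).b v = (rel H X').b (C.left.appTop v) := fun v =>
    ⟨by show C ≫ _ ≫ pp = _ ≫ pp; rw [← Category.assoc, GaPts.ptOfElt_comp],
     by show C ≫ _ ≫ pm = _ ≫ pm; rw [← Category.assoc, GaPts.ptOfElt_comp]⟩
  rw [← cancel_epi C, MonObj.comp_mul, MonObj.comp_mul, MonObj.comp_mul, MonObj.comp_mul, (hC _).1, (hC _).2,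
    map_neg]
  exact key

/-- the unit underlying `x' * x = -1` -/
def unitOf {r' r : Γ(X.left, ⊤)} (h : r' * r = -1) : (Γ(X.left, ⊤))ˣ :=
  ⟨r, -r', by linear_combination -h, by linear_combination -h⟩

theorem w_eq (x x' : X ⟶ Red.Ga S) (hx : Red.gaFn x' * Red.gaFn x = -1) :
    (x ≫ pp) * (x' ≫ pm) * (x ≫ pp) = (rel H X).w (unitOf hx) := by
  rw [Rel.w, pp_eq H, pm_eq H]
  simp [unitOf]

theorem w_eq_b (x x' : X ⟶ Red.Ga S) (hx : Red.gaFn x' * Red.gaFn x = -1) :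
    (x' ≫ pm) * (x ≫ pp) * (x' ≫ pm) = (rel H X).w (unitOf hx) := by
  rw [Rel.w, braid H, pp_eq H, pm_eq H]
  simp [unitOf]

include H in
theorem w_conj_a (x x' : X ⟶ Red.Ga S) (hx : Red.gaFn x' * Red.gaFn x = -1) :
    ((x ≫ pp) * (x' ≫ pm) * (x ≫ pp)) * (x ≫ pp) = (x' ≫ pm) * ((x ≫ pp) * (x' ≫ pm) * (x ≫ pp)) := by
  have h : (x' ≫ pm) * (x ≫ pp) * (x' ≫ pm) = (x ≫ pp) * (x' ≫ pm) * (x ≫ pp) := by
    rw [w_eq_b H x x' hx, w_eq H x x' hx]
  calc ((x ≫ pp) * (x' ≫ pm) * (x ≫ pp)) * (x ≫ pp)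
      = ((x' ≫ pm) * (x ≫ pp) * (x' ≫ pm)) * (x ≫ pp) := by rw [h]
    _ = _ := by simp only [mul_assoc]

end Groth.L25.RankOne
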