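import Mathlib.Algebra.Group.Units.Hom
import Mathlib.Algebra.Ring.Basic
import Mathlib.Tactic.Ring
import Mathlib.Tactic.LinearCombination
import Mathlib.Tactic.Group

/-!
# The relations of a rank one system, abstractly
-/

set_option autoImplicit false
universe u v w

namespace Groth.L25.RankOne

/-- the relations between the root groups, the coroot and the torus, on points with values in a ring -/
structure Rel (A : Type u) [CommRing A] (G : Type v) [Group G] (T : Type w) where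
  a : A → G
  b : A → G
  h : Aˣ → G
  j : T → G
  χ : T → Aˣ
  a_add : ∀ r s, a (r + s) = a r * a s
  b_add : ∀ r s, b (r + s) = b r * b s
  h_mul : ∀ y z, h (y * z) = h y * h z
  conj_a : ∀ t r, j t * a r * (j t)⁻¹ = a (χ t * r)
  conj_b : ∀ t r, j t * b r * (j t)⁻¹ = b (↑(χ t)⁻¹ * r)
  h_conj_a : ∀ (z : Aˣ) r, h z * a r * (h z)⁻¹ = a (z * z * r)
  h_conj_b : ∀ (z : Aˣ) r, h z * b r * (h z)⁻¹ = b (↑z⁻¹ * ↑z⁻¹ * r)
  comm : ∀ (x y : A) (u : Aˣ), (u : A) = 1 + x * y → a x * b y = b (y * ↑u⁻¹) * h u * a (x * ↑u⁻¹)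

variable {A : Type u} [CommRing A] {G : Type v} [Group G] {T : Type w} (R : Rel A G T)

namespace Rel

theorem a_zero : R.a 0 = 1 := by
  have := R.a_add 0 0; rw [add_zero] at this; exact left_eq_mul.1 this

theorem b_zero : R.b 0 = 1 := by
  have := R.b_add 0 0; rw [add_zero] at this; exact left_eq_mul.1 this

theorem h_one : R.h 1 = 1 := by
  have := R.h_mul 1 1; rw [mul_one] at this; exact left_eq_mul.1 this

theorem a_neg (r : A) : R.a (-r) = (R.a r)⁻¹ :=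
  eq_inv_of_mul_eq_one_left (by rw [← R.a_add, neg_add_cancel, R.a_zero])

theorem b_neg (r : A) : R.b (-r) = (R.b r)⁻¹ :=
  eq_inv_of_mul_eq_one_left (by rw [← R.b_add, neg_add_cancel, R.b_zero])

theorem h_inv (z : Aˣ) : R.h z⁻¹ = (R.h z)⁻¹ :=
  eq_inv_of_mul_eq_one_left (by rw [← R.h_mul, inv_mul_cancel, R.h_one])

theorem h_mul_a (z : Aˣ) (r : A) : R.h z * R.a r = R.a (z * z * r) * R.h z := by
  rw [← R.h_conj_a]; group

theorem h_mul_b (z : Aˣ) (r : A) : R.h z * R.b r = R.b (↑z⁻¹ * ↑z⁻¹ * r) * R.h z := by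
  rw [← R.h_conj_b]; group

theorem a_mul_h (z : Aˣ) (r : A) : R.a r * R.h z = R.h z * R.a (↑z⁻¹ * ↑z⁻¹ * r) := by
  rw [R.h_mul_a, show (z : A) * z * (↑z⁻¹ * ↑z⁻¹ * r) = ((z : A) * ↑z⁻¹) * ((z : A) * ↑z⁻¹) * r by ring,
    Units.mul_inv, one_mul, one_mul]

/-- the commutation rule for the opposite root -/
theorem comm' (x y : A) (u : Aˣ) (hu : (u : A) = 1 + x * y) :
    R.b y * R.a x = R.a (x * ↑u⁻¹) * (R.h u)⁻¹ * R.b (y * ↑u⁻¹) := by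
  have h0 := R.comm (-x) (-y) u (by rw [hu]; ring)
  rw [neg_mul, neg_mul, R.a_neg, R.b_neg, R.a_neg, R.b_neg] at h0
  have h1 := congrArg (·⁻¹) h0
  simp only [mul_inv_rev, inv_inv] at h1
  rw [h1, mul_assoc]

/-- the coroot through the root groups -/
theorem h_eq_prod (z : Aˣ) : R.b (↑z⁻¹ - 1) * R.a 1 * R.b ((z : A) - 1) * R.a (-↑z⁻¹) = R.h z := by
  rw [mul_assoc (R.b _) (R.a 1), R.comm 1 ((z : A) - 1) z (by ring), ← mul_assoc, ← mul_assoc, ← R.b_add,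
    mul_assoc _ (R.a _), ← R.a_add, one_mul, add_neg_cancel, R.a_zero, mul_one,
    show ↑z⁻¹ - 1 + ((z : A) - 1) * ↑z⁻¹ = ((z : A) * ↑z⁻¹ - 1) by ring, Units.mul_inv, sub_self, R.b_zero, one_mul]

/-- the product of two elements of the big cell -/
theorem cell_mul (y y' x x' y₂ x₂ : A) (t t' : T) (u : Aˣ) (hu : (u : A) = 1 + x * y')
    (hy₂ : (y₂ - y) * u * R.χ t = y') (hx₂ : (x₂ - x') * u * R.χ t' = x) :
    (R.b y * R.j t * R.a x) * (R.b y' * R.j t' * R.a x') = R.b y₂ * (R.j t * R.h u * R.j t') * R.a x₂ := by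
  have hy : y₂ = y + ↑(R.χ t)⁻¹ * (y' * ↑u⁻¹) := by
    linear_combination (↑(R.χ t)⁻¹ * ↑u⁻¹ : A) * hy₂ - (y₂ - y) * (R.χ t).mul_inv -
      (y₂ - y) * (R.χ t : A) * ↑(R.χ t)⁻¹ * u.mul_inv
  have hx : x₂ = ↑(R.χ t')⁻¹ * (x * ↑u⁻¹) + x' := by
    linear_combination (↑(R.χ t')⁻¹ * ↑u⁻¹ : A) * hx₂ - (x₂ - x') * (R.χ t').mul_inv -
      (x₂ - x') * (R.χ t' : A) * ↑(R.χ t')⁻¹ * u.mul_inv
  have e1 : R.j t * R.b (y' * ↑u⁻¹) = R.b (↑(R.χ t)⁻¹ * (y' * ↑u⁻¹)) * R.j t := by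
    rw [← R.conj_b]; group
  have e2 : R.a (x * ↑u⁻¹) * R.j t' = R.j t' * R.a (↑(R.χ t')⁻¹ * (x * ↑u⁻¹)) := by
    have := R.conj_a t' (↑(R.χ t')⁻¹ * (x * ↑u⁻¹))
    rw [← mul_assoc (R.χ t' : A), Units.mul_inv, one_mul] at this
    rw [← this]; group
  rw [hy, hx, R.b_add, R.a_add]
  calc R.b y * R.j t * R.a x * (R.b y' * R.j t' * R.a x')
      = R.b y * R.j t * (R.a x * R.b y') * R.j t' * R.a x' := by group
    _ = R.b y * (R.j t * R.b (y' * ↑u⁻¹)) * R.h u * (R.a (x * ↑u⁻¹) * R.j t') * R.a x' := by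
        rw [R.comm x y' u hu]; group
    _ = _ := by rw [e1, e2]; group

/-- `w(x)` -/
def w (x : Aˣ) : G := R.a x * R.b (-↑x⁻¹) * R.a x

theorem w_inv (x : Aˣ) : (R.w x)⁻¹ = R.w (-x) := by
  rw [w, w, mul_inv_rev, mul_inv_rev, ← R.a_neg, ← R.b_neg, ← mul_assoc]
  congr 2 <;> simp

theorem w_mul_left (z x : Aˣ) : R.w (z * x) = R.h z * R.w x := by
  rw [← mul_inv_eq_iff_eq_mul, R.w_inv, w, w]
  have e := R.comm ((z : A) * x - x) ↑x⁻¹ z (by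
    linear_combination (1 - (z : A)) * x.mul_inv)
  calc R.a ↑(z * x) * R.b (-↑(z * x)⁻¹) * R.a ↑(z * x) * (R.a ↑(-x) * R.b (-↑(-x)⁻¹) * R.a ↑(-x))
      = R.a ↑(z * x) * R.b (-↑(z * x)⁻¹) * (R.a ((z : A) * x - x) * R.b ↑x⁻¹) * R.a (-↑x) := by
        rw [sub_eq_add_neg, R.a_add]; simp only [Units.val_mul, Units.val_neg, inv_neg, neg_neg]; group
    _ = R.a ↑(z * x) * (R.b (-↑(z * x)⁻¹) * R.b (↑x⁻¹ * ↑z⁻¹)) * R.h z * (R.a (((z : A) * x - x) * ↑z⁻¹) * R.a (-↑x)) := by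
        rw [e]; group
    _ = R.a ↑(z * x) * R.h z * R.a (((z : A) * x - x) * ↑z⁻¹ + -↑x) := by
        rw [← R.b_add, ← R.a_add, mul_inv_rev, Units.val_mul x⁻¹ z⁻¹, neg_add_cancel, R.b_zero, mul_one]
    _ = R.h z := by
        rw [R.a_mul_h, mul_assoc, ← R.a_add, show (↑z⁻¹ : A) * ↑z⁻¹ * ↑(z * x) + (((z : A) * x - x) * ↑z⁻¹ + -↑x) = 0
          from ?_, R.a_zero, mul_one]
        rw [Units.val_mul]
        linear_combination ((↑z⁻¹ : A) * x + x) * z.mul_inv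

theorem w_mul_right (z x : Aˣ) : R.w (z * x) = R.w x * (R.h z)⁻¹ := by
  have h := congrArg (·⁻¹) (R.w_mul_left z (-x))
  simp only [mul_inv_rev, R.w_inv, neg_neg] at h
  rw [show z * -x = -(z * x) from mul_neg z x, neg_neg] at h
  exact h

theorem w_mul_w (x y : Aˣ) (z : Aˣ) (hz : (z : A) * y = -x) : R.w x * R.w y = R.h z := by
  have : x = z * -y := Units.ext (by rw [Units.val_mul, Units.val_neg]; linear_combination hz)
  rw [this, R.w_mul_left, ← R.w_inv, inv_mul_cancel_right]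

theorem w_conj_j (x : Aˣ) (t : T) : R.w x * R.j t * (R.w x)⁻¹ = (R.h (R.χ t))⁻¹ * R.j t := by
  have h1 : R.j t * R.w x * (R.j t)⁻¹ = R.w (R.χ t * x) := by
    rw [w, w, show R.j t * (R.a x * R.b (-↑x⁻¹) * R.a x) * (R.j t)⁻¹ = (R.j t * R.a x * (R.j t)⁻¹) *
      (R.j t * R.b (-↑x⁻¹) * (R.j t)⁻¹) * (R.j t * R.a x * (R.j t)⁻¹) by group, R.conj_a, R.conj_b, Units.val_mul,
      mul_inv_rev, Units.val_mul]
    congr 3
    ring
  rw [R.w_mul_left, mul_inv_eq_iff_eq_mul] at h1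
  rw [mul_inv_eq_iff_eq_mul, mul_assoc, h1]
  group

/-- the braid relation, when `r` and `1 - r` are units -/
theorem braid (x : Aˣ) (r s : Aˣ) (hrs : (r : A) + s = 1) :
    R.a x * R.b (-↑x⁻¹) * R.a x = R.b (-↑x⁻¹) * R.a x * R.b (-↑x⁻¹) := by
  have e1 := R.comm x (-(s : A) * ↑x⁻¹) r (by linear_combination hrs + (s : A) * x.mul_inv)
  have e2 := R.comm' x (-(r : A) * ↑x⁻¹) s (by linear_combination hrs + (r : A) * x.mul_inv)
  let v : Aˣ := r * s⁻¹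
  let u : Aˣ := s * r⁻¹
  let P : A := -(s : A) * ↑x⁻¹ * ↑r⁻¹
  let Q : A := (r : A) * x * ↑s⁻¹
  let R' : A := (s : A) * ↑r⁻¹ * ↑r⁻¹ * ↑x⁻¹ * ((s : A) - r)
  have hQ : (r : A) * r * (x * ↑r⁻¹ + x * ↑s⁻¹) = Q := by
    linear_combination ((r : A) * x) * r.mul_inv - ((r : A) * x) * s.mul_inv + ((r : A) * x * ↑s⁻¹) * hrs
  have hR : (↑v⁻¹ : A) * ↑v⁻¹ * (-(r : A) * ↑x⁻¹ * ↑s⁻¹ + ↑x⁻¹) = R' := by
    rw [show v⁻¹ = s * r⁻¹ by rw [mul_inv_rev, inv_inv], Units.val_mul]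
    linear_combination (-((s : A) * ↑r⁻¹ * ↑r⁻¹ * ↑x⁻¹ * r)) * s.mul_inv
  have hL : R.a x * R.b (-↑x⁻¹) * R.a x = R.b P * R.a Q * R.h v * R.b (-(r : A) * ↑x⁻¹ * ↑s⁻¹) := by
    calc R.a x * R.b (-↑x⁻¹) * R.a x
        = (R.a x * R.b (-(s : A) * ↑x⁻¹)) * (R.b (-(r : A) * ↑x⁻¹) * R.a x) := by
          rw [show (-↑x⁻¹ : A) = -(s : A) * ↑x⁻¹ + -(r : A) * ↑x⁻¹ by linear_combination (↑x⁻¹ : A) * hrs, R.b_add]
          group
      _ = R.b P * (R.h r * R.a (↑x * ↑r⁻¹ + ↑x * ↑s⁻¹)) * R.h s⁻¹ * R.b (-(r : A) * ↑x⁻¹ * ↑s⁻¹) := by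
          rw [e1, e2, R.a_add, R.h_inv]
          simp only [P, mul_assoc]
      _ = _ := by rw [R.h_mul_a, hQ, show v = r * s⁻¹ from rfl, R.h_mul r s⁻¹]; group
  have e3 := R.comm Q R' u (by
    rw [Units.val_mul]
    linear_combination (1 - ↑r⁻¹ * ((s : A) - r) * x * ↑x⁻¹ * s * ↑s⁻¹) * r.mul_inv
      - (↑r⁻¹ * ((s : A) - r) * s * ↑s⁻¹) * x.mul_inv - (↑r⁻¹ * ((s : A) - r)) * s.mul_inv)
  have key : R.b (P + ↑x⁻¹) * R.a Q * R.h v * R.b (-(r : A) * ↑x⁻¹ * ↑s⁻¹ + ↑x⁻¹) = R.a x := by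
    rw [mul_assoc _ (R.h v), R.h_mul_b, hR]
    calc R.b (P + ↑x⁻¹) * R.a Q * (R.b R' * R.h v)
        = R.b (P + ↑x⁻¹) * (R.a Q * R.b R') * R.h v := by group
      _ = R.b (P + ↑x⁻¹ + R' * ↑u⁻¹) * (R.h u * R.a (Q * ↑u⁻¹)) * R.h v := by
          rw [e3, R.b_add (P + ↑x⁻¹) (R' * ↑u⁻¹)]
          simp only [mul_assoc]
      _ = R.a x := by
        rw [R.h_mul_a, show P + ↑x⁻¹ + R' * ↑u⁻¹ = 0 from ?_, R.b_zero, one_mul, mul_assoc, ← R.h_mul,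
          show u * v = 1 from ?_, R.h_one, mul_one]
        · congr 1
          rw [show u⁻¹ = r * s⁻¹ by rw [mul_inv_rev, inv_inv], Units.val_mul, Units.val_mul]
          linear_combination ((x : A) * ((r * ↑r⁻¹) * (s * ↑s⁻¹) + 1) * (s * ↑s⁻¹)) * r.mul_inv
            + ((x : A) * ((r * ↑r⁻¹) * (s * ↑s⁻¹) + 1)) * s.mul_inv
        · refine Units.ext ?_
          rw [Units.val_mul, Units.val_mul, Units.val_mul, Units.val_one]
          linear_combination ((s : A) * ↑s⁻¹) * r.mul_inv + s.mul_inv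
        · rw [show u⁻¹ = r * s⁻¹ by rw [mul_inv_rev, inv_inv], Units.val_mul]
          linear_combination (-↑x⁻¹ + ((s : A) - r) * ↑r⁻¹ * ↑x⁻¹ * s * ↑s⁻¹) * r.mul_inv
            + (((s : A) - r) * ↑r⁻¹ * ↑x⁻¹) * s.mul_inv
  rw [hL]
  have : R.b P * R.a Q * R.h v * R.b (-(r : A) * ↑x⁻¹ * ↑s⁻¹) =
      R.b (-↑x⁻¹) * (R.b (P + ↑x⁻¹) * R.a Q * R.h v * R.b (-(r : A) * ↑x⁻¹ * ↑s⁻¹ + ↑x⁻¹)) * R.b (-↑x⁻¹) := by
    rw [show R.b (P + ↑x⁻¹) = R.b ↑x⁻¹ * R.b P by rw [← R.b_add, add_comm], R.b_add _ (↑x⁻¹ : A), R.b_neg]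
    group
  rw [this, key]

end Rel

end Groth.L25.RankOne
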